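import Groth.Agent.DualCore.FiniteMap
import Groth.Agent.PropsBasic2.TildeExact
import Groth.Agent.DualCore.RestrictLeftAdjoint
import Groth.Agent.DerivedCoh.PushPull.RpushTilde
import Groth.Agent.DerivedCoh.KFlat.RpushComp
import Groth.Prelude.Def_Dual3

/-!
# The twisted inverse image of a structure sheaf along a field extension
-/

set_option autoImplicit false
universe v u

open CategoryTheory CategoryTheory.Limits AlgebraicGeometry IsLocalRing

namespace Groth.Dual3BC

section Abstract

variable {C C' D : Type*} [Category.{v} C] [Category.{v} C'] [Category.{v} D]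
  {F : D ⥤ C} {a : C ⥤ D} (adj : F ⊣ a) {F' : D ⥤ C'} {a' : C' ⥤ D} (adj' : F' ⊣ a')
  {G : C' ⥤ C} (e : F' ⋙ G ≅ F)

include adj adj' e in
/-- Composition of a right adjoint with a representing object. -/
theorem nonempty_iso_of_represents_comp {P : C'} {Q : C} (c : G.obj P ⟶ Q)
    (hc : ∀ N : C', Function.Bijective fun h : N ⟶ P => G.map h ≫ c) :
    Nonempty (a.obj Q ≅ a'.obj P) := by
  let θ := adj.homEquiv _ _ (e.inv.app (a'.obj P) ≫ G.map (adj'.counit.app P) ≫ c)
  have hb : ∀ K : D, Function.Bijective fun k : K ⟶ a'.obj P => k ≫ θ := fun K => by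
    have h1 : (fun k : K ⟶ a'.obj P => k ≫ θ) = (adj.homEquiv _ _) ∘ (fun t => e.inv.app K ≫ t) ∘
        (fun h => G.map h ≫ c) ∘ (adj'.homEquiv K P).symm := funext fun k => by
      simp only [Function.comp_apply, θ]
      rw [← adj.homEquiv_naturality_left, adj'.homEquiv_counit, G.map_comp, Category.assoc]
      exact congrArg _ (e.inv.naturality_assoc k _)
    rw [h1]
    exact (adj.homEquiv _ _).bijective.comp ((Iso.homFromEquiv (e.app K)).bijective.comp
      ((hc _).comp (adj'.homEquiv K P).symm.bijective))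
  obtain ⟨i, hi⟩ := (hb _).2 (𝟙 _)
  haveI : IsIso θ := ⟨i, (hb _).1 ((Category.assoc _ _ _).trans ((congrArg (fun t => θ ≫ t) hi).trans
    ((Category.comp_id _).trans (Category.id_comp _).symm))), hi⟩
  exact ⟨(asIso θ).symm⟩

end Abstract

attribute [local instance] HasDerivedCategory.standard

open Groth.DualCore DerivedCategory

/-- `k[0]` satisfies the residue condition. -/
theorem hasResidue_self (k : Type u) [Field k] : HasResidue (Dual.inD k k) := by
  have e : ResidueField k ≃ₗ[k] k :=
    (LinearEquiv.ofBijective (Algebra.linearMap k (ResidueField k))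
      ⟨(algebraMap k (ResidueField k)).injective, IsLocalRing.residue_surjective⟩).symm
  let ι := (singleFunctor (ModuleCat.{u} k) 0).mapIso e.toModuleIso
  let c := singleFunctorCompHomologyFunctorIso (ModuleCat.{u} k) 0
  refine ⟨fun i hi => ?_, ⟨?_⟩⟩
  · have h0 : IsZero ((homologyFunctor (ModuleCat.{u} k) i).obj (Dual.inD k k)) := by
      haveI : IsGE (Dual.inD k k) 0 := inferInstance
      haveI : IsLE (Dual.inD k k) 0 := inferInstance
      rcases lt_or_gt_of_ne hi with h | h
      · exact isZero_of_isGE _ 0 i h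
      · exact isZero_of_isLE _ 0 i h
    haveI : Subsingleton (Dual.HD k (Dual.inD k k) i) := ModuleCat.subsingleton_of_isZero h0
    haveI := (homAEquiv (Dual.inD k k) i).toEquiv.subsingleton
    exact (Linear.homCongr k ι (Iso.refl ((Dual.inD k k)⟦i⟧))).toEquiv.subsingleton
  · exact (Linear.homCongr k ι (Iso.refl ((Dual.inD k k)⟦(0 : ℤ)⟧))).trans
      ((homAEquiv (Dual.inD k k) 0).trans ((c.app (ModuleCat.of k k)).toLinearEquiv.trans e.symm))

/-- `k[0]` is dualizing. -/
theorem isDualizing_self (k : Type u) [Field k] : Dual.IsDualizing k (Dual.inD k k) := by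
  haveI : IsGE (Dual.inD k k) 0 := inferInstance
  haveI : IsLE (Dual.inD k k) 0 := inferInstance
  refine isDualizing_of_hasResidue (hasResidue_self k) (fun i => ?_) 0
  rcases eq_or_ne i 0 with rfl | hi
  · let e : k ≃ₗ[k] Dual.HD k (Dual.inD k k) 0 :=
      ((singleFunctorCompHomologyFunctorIso (ModuleCat.{u} k) 0).app (ModuleCat.of k k)).symm.toLinearEquiv
    exact Module.Finite.equiv e
  · haveI : Subsingleton (Dual.HD k (Dual.inD k k) i) := by
      refine ModuleCat.subsingleton_of_isZero ?_
      rcases lt_or_gt_of_ne hi with h | h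
      · exact isZero_of_isGE _ 0 i h
      · exact isZero_of_isLE _ 0 i h
    infer_instance

/-- Positive and negative self extensions of `k` vanish on finite vector spaces. -/
theorem subsingleton_hom_self (k : Type u) [Field k] (N : Type u) [AddCommGroup N] [Module k N]
    [Module.Finite k N] (i : ℤ) (hi : i ≠ 0) :
    Subsingleton (Dual.inD k N ⟶ (Dual.inD k k)⟦i⟧) := by
  haveI : Subsingleton (Dual.HD k (Dual.inD k k) i) := by
    refine ModuleCat.subsingleton_of_isZero ?_
    haveI : IsGE (Dual.inD k k) 0 := inferInstance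
    haveI : IsLE (Dual.inD k k) 0 := inferInstance
    rcases lt_or_gt_of_ne hi with h | h
    · exact isZero_of_isGE _ 0 i h
    · exact isZero_of_isLE _ 0 i h
  haveI : Subsingleton (Dual.inD k k ⟶ (Dual.inD k k)⟦i⟧) := (homAEquiv (Dual.inD k k) i).toEquiv.subsingleton
  exact ((Linear.homCongr k ((singleFunctor (ModuleCat.{u} k) 0).mapIso
    (Module.finBasis k N).equivFun.toModuleIso) (Iso.refl _)).trans
    (homPiEquiv (Module.finrank k N) k (Dual.inD k k) i)).toEquiv.subsingleton

/-- A representing object of `Hom(-, k)` along a finite field extension is `k'[0]`. -/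
theorem exists_represents_field (k k' : Type u) [Field k] [Field k'] [Algebra k k'] [Module.Finite k k'] :
    ∃ ε : (DRing.restrictD (algebraMap k k')).obj (Dual.inD k' k') ⟶ Dual.inD k k,
      Represents (algebraMap k k') ε := by
  haveI := isLeftAdjoint_restrictD (algebraMap k k')
  let adj := Adjunction.ofIsLeftAdjoint (DRing.restrictD (algebraMap k k'))
  let W := (DRing.restrictD (algebraMap k k')).rightAdjoint.obj (Dual.inD k k)
  let ε := adj.counit.app (Dual.inD k k)
  have h : Represents (algebraMap k k') (W := W) ε := fun X => by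
    have : (fun g : X ⟶ W => (DRing.restrictD (algebraMap k k')).map g ≫ ε) =
        (adj.homEquiv X (Dual.inD k k)).symm := funext fun g => (adj.homEquiv_counit _ _ g).symm
    rw [this]
    exact Equiv.bijective _
  have hW := isDualizing_of_represents h (isDualizing_self k)
  have hv : ∀ i : ℤ, i ≠ 0 → Subsingleton (Dual.inD k' (ResidueField k') ⟶ W⟦i⟧) := fun i hi => by
    haveI : Subsingleton (Dual.inD k' k' ⟶ W⟦i⟧) :=
      (h.subsingleton_iff k' i).2 (subsingleton_hom_self k k' i hi)
    let e : ResidueField k' ≃ₗ[k'] k' :=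
      (LinearEquiv.ofBijective (Algebra.linearMap k' (ResidueField k'))
        ⟨(algebraMap k' (ResidueField k')).injective, IsLocalRing.residue_surjective⟩).symm
    exact (Linear.homCongr k' ((singleFunctor (ModuleCat.{u} k') 0).mapIso e.toModuleIso)
      (Iso.refl (W⟦i⟧))).toEquiv.subsingleton
  obtain ⟨d, hd, ⟨ed⟩⟩ := residue_of_finite h (isDualizing_self k) (maximalIdeal k')
  have hd0 : d = 0 := by
    by_contra hne
    haveI : Subsingleton (Dual.inD k' (k' ⧸ maximalIdeal k') ⟶ W⟦d⟧) := hv d hne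
    haveI : Nontrivial (k' ⧸ maximalIdeal k') := inferInstanceAs (Nontrivial (ResidueField k'))
    exact not_subsingleton (k' ⧸ maximalIdeal k') ed.symm.toEquiv.subsingleton
  subst hd0
  obtain ⟨e⟩ := nonempty_iso_of_hasResidue hW (isDualizing_self k') ⟨hv, ⟨ed⟩⟩ (hasResidue_self k')
  refine ⟨(DRing.restrictD (algebraMap k k')).map e.inv ≫ ε, fun X => ?_⟩
  have : (fun g : X ⟶ Dual.inD k' k' => (DRing.restrictD (algebraMap k k')).map g ≫
      (DRing.restrictD (algebraMap k k')).map e.inv ≫ ε) =
      (fun g : X ⟶ W => (DRing.restrictD (algebraMap k k')).map g ≫ ε) ∘ (fun g => g ≫ e.inv) :=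
    funext fun g => by simp
  rw [this]
  exact (h X).comp (Iso.homToEquiv e.symm).bijective

/-- A finite type point factoring through a field extension makes it finite. -/
theorem finite_of_point (k k' : Type u) [Field k] [Field k'] [Algebra k k'] {X : Scheme.{u}} [Nonempty X]
    (f : X ⟶ Spec (CommRingCat.of k)) [IsProper f] (f' : X ⟶ Spec (CommRingCat.of k'))
    (hff' : f' ≫ Spec.map (CommRingCat.ofHom (algebraMap k k')) = f) : Module.Finite k k' := by
  haveI : CompactSpace X := (quasiCompact_iff_compactSpace f).mp inferInstance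
  haveI : JacobsonSpace X := LocallyOfFiniteType.jacobsonSpace f
  obtain ⟨x, -, hx⟩ := IsClosed.exists_closed_singleton isClosed_univ (Set.univ_nonempty (α := X))
  haveI : IsClosedImmersion (X.fromSpecResidueField x) := isClosed_singleton_iff_isClosedImmersion.mp hx
  have hfin : IsFinite (X.fromSpecResidueField x ≫ f) :=
    (isFinite_iff_locallyOfFiniteType_of_jacobsonSpace (f := X.fromSpecResidueField x ≫ f)).mpr inferInstance
  let ψ := Spec.preimage (X.fromSpecResidueField x ≫ f')
  have hψ : X.fromSpecResidueField x ≫ f = Spec.map (CommRingCat.ofHom (algebraMap k k') ≫ ψ) := by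
    rw [Spec.map_comp, Spec.map_preimage, Category.assoc, hff']
  rw [hψ, IsFinite.SpecMap_iff] at hfin
  letI : Algebra k' (X.residueField x) := ψ.hom.toAlgebra
  letI : Algebra k (X.residueField x) := ((CommRingCat.ofHom (algebraMap k k') ≫ ψ).hom).toAlgebra
  haveI : IsScalarTower k k' (X.residueField x) := IsScalarTower.of_algebraMap_eq fun _ => rfl
  haveI : Module.Finite k (X.residueField x) := hfin
  exact Module.Finite.of_injective (IsScalarTower.toAlgHom k k' (X.residueField x)).toLinearMap
    ψ.hom.injective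

/-- `Hom(-, k'~)` on `D_QCoh(Spec k')` is `Hom(Rg_* -, k~)`. -/
theorem exists_represents_tilde (k k' : Type u) [Field k] [Field k'] [Algebra k k'] [Module.Finite k k']
    [DCoh.HasRpush (Spec.map (CommRingCat.ofHom (algebraMap k k')))]
    (hg : DCoh.RpushPreservesQCoh (Spec.map (CommRingCat.ofHom (algebraMap k k'))))
    (O : DCoh.DQCoh (Spec (CommRingCat.of k)))
    (eO : O.obj ≅ DCoh.inD (Spec (CommRingCat.of k)) ((tilde.functor (CommRingCat.of k)).obj (ModuleCat.of k k)))
    (O' : DCoh.DQCoh (Spec (CommRingCat.of k')))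
    (eO' : O'.obj ≅ DCoh.inD (Spec (CommRingCat.of k')) ((tilde.functor (CommRingCat.of k')).obj (ModuleCat.of k' k'))) :
    ∃ c : (DCoh.RpushQ _ hg).obj O' ⟶ O,
      ∀ N, Function.Bijective fun h : N ⟶ O' => (DCoh.RpushQ _ hg).map h ≫ c := by
  haveI := Groth.PropsBasic2.preservesFiniteLimits_tilde (CommRingCat.of k)
  haveI := Groth.PropsBasic2.preservesFiniteLimits_tilde (CommRingCat.of k')
  obtain ⟨ε, hε⟩ := exists_represents_field k k'
  obtain ⟨τ⟩ := Groth.DerivedCoh.PushPull.nonempty_tildeD_Rpush (algebraMap k k')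
  let R := DCoh.Rpush (Spec.map (CommRingCat.ofHom (algebraMap k k')))
  let tA := DCoh.tildeD (CommRingCat.of k)
  let tB := DCoh.tildeD (CommRingCat.of k')
  let eA : tA.obj (Dual.inD k k) ≅ O.obj :=
    ((tilde.functor (CommRingCat.of k)).mapDerivedCategorySingleFunctor 0).app (ModuleCat.of k k) ≪≫ eO.symm
  let eB : tB.obj (Dual.inD k' k') ≅ O'.obj :=
    ((tilde.functor (CommRingCat.of k')).mapDerivedCategorySingleFunctor 0).app (ModuleCat.of k' k') ≪≫ eO'.symm
  let c₀ : R.obj O'.obj ⟶ O.obj :=
    R.map eB.inv ≫ τ.hom.app (Dual.inD k' k') ≫ tA.map ε ≫ eA.hom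
  refine ⟨ObjectProperty.homMk c₀, fun N => ?_⟩
  obtain ⟨N₀, ⟨eN⟩⟩ := (Groth.Misc4.QCohTildeD.isQCohD_iff _ N.obj).1 N.property
  have h₀ : Function.Bijective fun h : N.obj ⟶ O'.obj => R.map h ≫ c₀ := by
    have hfun : (fun h : N.obj ⟶ O'.obj => R.map h ≫ c₀) ∘ (fun t => eN.inv ≫ t ≫ eB.hom) ∘
        (fun h₀ : N₀ ⟶ Dual.inD k' k' => tB.map h₀) =
        (fun t => (R.map eN.inv ≫ τ.hom.app N₀) ≫ t ≫ eA.hom) ∘
          (fun g => tA.map g) ∘ fun h₀ => (DRing.restrictD (algebraMap k k')).map h₀ ≫ ε := funext fun h₀ => by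
      simp only [Function.comp_apply, c₀, Functor.map_comp, Category.assoc, Iso.map_hom_inv_id_assoc]
      exact congrArg (R.map eN.inv ≫ ·) (τ.hom.naturality_assoc h₀ _)
    have hr : Function.Bijective ((fun t => (R.map eN.inv ≫ τ.hom.app N₀) ≫ t ≫ eA.hom) ∘
          (fun g => tA.map g) ∘ fun h₀ : N₀ ⟶ Dual.inD k' k' =>
            (DRing.restrictD (algebraMap k k')).map h₀ ≫ ε) :=
      (((R.mapIso eN.symm ≪≫ τ.app N₀).symm.homCongr eA).bijective).comp
        ((Groth.Misc4.QCohTildeD.bijective_map _ _ _).comp (hε N₀))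
    rw [← hfun] at hr
    exact (Function.Bijective.of_comp_iff _ ((eN.homCongr eB).bijective.comp
      (Groth.Misc4.QCohTildeD.bijective_map _ _ _))).1 hr
  exact ⟨fun g g' h => ObjectProperty.hom_ext _ (h₀.1 (congrArg (fun t => t.hom) h)), fun t => by
    obtain ⟨g, hg⟩ := h₀.2 t.hom
    exact ⟨ObjectProperty.homMk g, ObjectProperty.hom_ext _ hg⟩⟩

end Groth.Dual3BC
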