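import Groth.Agent.Misc4.ProjQCoh
import Groth.Agent.DEquivH6.DiagPhi
import Groth.Agent.Misc4.QCohDTensor

/-!
# The projection formula on `D_QCoh`, naturally in the object on the source
-/

set_option autoImplicit false
universe u

open CategoryTheory CategoryTheory.Limits AlgebraicGeometry HomologicalComplex

namespace Groth.Dual3ProjNat

open Groth.DerivedCoh.KFlat
open Groth.DerivedCoh.Duality (inc tot_ext)
open Groth.Misc4.ProjMap (pR pR_left)
open Groth.Misc4.ProjCx (psi psiX inc_psiX)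

attribute [local instance] HasDerivedCategory.standard

set_option maxHeartbeats 1000000

local notation "up" => ComplexShape.up ℤ

variable {X Y : Scheme.{u}} (f : X ⟶ Y)

lemma inc_totL_map' {Z : Scheme.{u}} {M M' : CochainComplex Z.Modules ℤ} (g : M ⟶ M')
    (P : CochainComplex Z.Modules ℤ) (p q n : ℤ) (h : p + q = n) :
    inc M P p q n h ≫ ((totL (T Z) P).map g).f n = ((T Z).map (g.f p)).app (P.X q) ≫ inc M' P p q n h := by
  refine (ι_mapBifunctorMap g (𝟙 P) (T Z) up p q n h).trans ?_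
  simp [inc]

/-- the projection map is natural in the complex on the source -/
lemma psi_natural_left {I I' : CochainComplex X.Modules ℤ} (β : I ⟶ I') (P : CochainComplex Y.Modules ℤ) :
    (totL (T Y) P).map ((pushCx f).map β) ≫ psi f I' P =
      psi f I P ≫ (pushCx f).map ((totL (T X) ((pullCx f).obj P)).map β) := by
  refine HomologicalComplex.hom_ext _ _ fun n => tot_ext _ _ fun p q h => ?_
  refine (Category.assoc _ _ _).symm.trans ((congrArg (· ≫ _)
    (inc_totL_map' ((pushCx f).map β) P p q n h)).trans ?_)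
  refine (Category.assoc _ _ _).trans ((congrArg (_ ≫ ·) (inc_psiX f I' P p q n h)).trans ?_)
  refine (Category.assoc _ _ _).symm.trans ((congrArg (· ≫ _) (pR_left f (β.f p) (P.X q))).trans ?_)
  refine Eq.trans ?_ ((Category.assoc _ _ _).symm.trans ((congrArg (· ≫ _) (inc_psiX f I P p q n h)).trans
    (Category.assoc _ _ _))).symm
  refine (Category.assoc _ _ _).trans (congrArg (pR f (I.X p) (P.X q) ≫ ·) ?_)
  refine ((Scheme.Modules.pushforward f).map_comp _ _).symm.trans ((congrArg
    (Scheme.Modules.pushforward f).map ?_).trans ((Scheme.Modules.pushforward f).map_comp _ _))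
  exact (inc_totL_map' β ((pullCx f).obj P) p q n h).symm

/-- the projection map as a natural transformation -/
noncomputable def thetaNat (P : CochainComplex Y.Modules ℤ) :
    pushCx f ⋙ totL (T Y) P ⟶ totL (T X) ((pullCx f).obj P) ⋙ kres X ⋙ pushCx f where
  app I := Groth.Misc4.ProjPerfect.theta f I P
  naturality I I' β := by
    refine (Category.assoc _ _ _).symm.trans ((congrArg (· ≫ _) (psi_natural_left f β P)).trans ?_)
    refine (Category.assoc _ _ _).trans (Eq.trans ?_ (Category.assoc _ _ _).symm)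
    refine congrArg (psi f I P ≫ ·) ?_
    refine ((pushCx f).map_comp _ _).symm.trans ((congrArg (pushCx f).map ?_).trans ((pushCx f).map_comp _ _))
    exact (kresAug X).naturality ((totL (T X) ((pullCx f).obj P)).map β)

variable [DCoh.HasRpush f] (P : CochainComplex Y.Modules ℤ) (hP : IsKFlat (T Y) P) [DCoh.HasLTensorCx P]
  [DCoh.HasLTensorCx ((pullCx f).obj P)]

/-- resolving by K-injectives is invisible in the derived category -/
noncomputable def kresIso (Z : Scheme.{u}) : L₀ Z ≅ kres Z ⋙ L₀ Z :=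
  let n := Functor.whiskerRight (kresAug Z) (L₀ Z)
  haveI : ∀ C, IsIso (n.app C) := fun C => isIso_L₀_map ((kresAug Z).app C)
  haveI := NatIso.isIso_of_isIso_app n
  asIso n

/-- the comparison on complexes -/
noncomputable def cmp : L₀ X ⋙ DCoh.Rpush f ⋙ DCoh.LTensorCx P ⟶
    L₀ X ⋙ DCoh.LTensorCx ((pullCx f).obj P) ⋙ DCoh.Rpush f :=
  (Functor.isoWhiskerRight (RpushResIso f) (DCoh.LTensorCx P) ≪≫
    Functor.isoWhiskerLeft (kres X) (Functor.isoWhiskerLeft (pushCx f)
      (Functor.isoWhiskerRight (L₀Q Y) (DCoh.LTensorCx P) ≪≫ ltcxNatIso P hP))).hom ≫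
  Functor.whiskerLeft (kres X) (Functor.whiskerRight (thetaNat f P) DerivedCategory.Q) ≫
  (Functor.isoWhiskerLeft (kres X) (Functor.isoWhiskerLeft (totL (T X) ((pullCx f).obj P))
      (Functor.isoWhiskerLeft (kres X) (Functor.isoWhiskerLeft (pushCx f) (L₀Q Y).symm) ≪≫
        (RpushResIso f).symm) ≪≫
    Functor.isoWhiskerRight (Functor.isoWhiskerLeft (totL (T X) ((pullCx f).obj P)) (L₀Q X) ≪≫
      (ltcxNatIso ((pullCx f).obj P) (isKFlat_pullCx f P hP)).symm ≪≫
      Functor.isoWhiskerRight (L₀Q X).symm _) (DCoh.Rpush f)) ≪≫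
    Functor.isoWhiskerRight (kresIso X).symm (DCoh.LTensorCx ((pullCx f).obj P) ⋙ DCoh.Rpush f)).hom

/-- `Rf_* M ⊗^L P ⟶ Rf_*(M ⊗^L f^*P)` -/
noncomputable def proj : DCoh.Rpush f ⋙ DCoh.LTensorCx P ⟶
    DCoh.LTensorCx ((pullCx f).obj P) ⋙ DCoh.Rpush f :=
  Localization.liftNatTrans (L₀ X) (HomologicalComplex.quasiIso X.Modules up)
    (L₀ X ⋙ DCoh.Rpush f ⋙ DCoh.LTensorCx P)
    (L₀ X ⋙ DCoh.LTensorCx ((pullCx f).obj P) ⋙ DCoh.Rpush f) _ _ (cmp f P hP)

variable [QuasiCompact f] [QuasiSeparated f]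

/-- the projection formula -/
theorem isIso_proj (hPq : DCoh.IsQCohD (DCoh.toD Y P)) {M : DCoh.D X} (hM : DCoh.IsQCohD M) :
    IsIso ((proj f P hP).app M) := by
  obtain ⟨C, ⟨e⟩⟩ := Groth.KTheory.Perf.exists_rep M
  let e' : (L₀ X).obj C ≅ M := (L₀Q X).app C ≪≫ e
  refine (NatTrans.isIso_app_iff_of_iso (proj f P hP) e').1 ?_
  haveI := (DerivedCategory.isIso_Q_map_iff_quasiIso _ ((kresAug X).app C)).2 inferInstance
  haveI : IsIso (DerivedCategory.Q.map ((thetaNat f P).app ((kres X).obj C))) :=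
    (DerivedCategory.isIso_Q_map_iff_quasiIso _ _).2
      (Groth.Misc4.ProjQCoh.quasiIso_theta f ((kres X).obj C) inferInstance
        (Groth.Misc4.QCohDPerf.isQCohD_of_iso (e.symm ≪≫ asIso (DerivedCategory.Q.map ((kresAug X).app C))) hM)
        P hP hPq)
  have hc : IsIso ((cmp f P hP).app C) := by
    change IsIso (_ ≫ DerivedCategory.Q.map ((thetaNat f P).app ((kres X).obj C)) ≫ _)
    infer_instance
  rw [proj, Localization.liftNatTrans_app]
  infer_instance

end Groth.Dual3ProjNat
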