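import Groth.Agent.DerivedCoh.BaseChange.TorProducers
import Groth.Agent.DerivedCoh.PushPull.Adjunction
import Groth.Agent.Misc4.QCohDColim
import Groth.Agent.FrobLCI.PerfectTor
import Groth.Prelude.Def_Dual3

/-!
# The base change transformation `ξ` for Tor independent squares
-/

set_option autoImplicit false
universe v u

open CategoryTheory CategoryTheory.Limits AlgebraicGeometry

namespace Groth.Dual3BC

section Abstract

variable {C C' D D' : Type*} [Category.{v} C] [Category.{v} C'] [Category.{v} D] [Category.{v} D']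
  {F : D ⥤ C} {a : C ⥤ D} (adj : F ⊣ a) {F' : D' ⥤ C'} {a' : C' ⥤ D'} (adj' : F' ⊣ a')
  {G : C' ⥤ C} {L : C ⥤ C'} (adjg : L ⊣ G) {G' : D' ⥤ D} {L' : D ⥤ D'} (adjg' : L' ⊣ G')
  (e : G' ⋙ F ≅ F' ⋙ G)

include adjg adjg' in
/-- If the base change map is invertible, so is its mate. -/
theorem isIso_mate (hbc : ∀ K : D, IsIso ((adjg.homEquiv _ _).symm
      (F.map (adjg'.unit.app K) ≫ e.hom.app (L'.obj K)))) (M : C') :
    IsIso (adj.homEquiv _ _ (e.hom.app (a'.obj M) ≫ G.map (adj'.counit.app M))) := by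
  let ξ := adj.homEquiv _ _ (e.hom.app (a'.obj M) ≫ G.map (adj'.counit.app M))
  have hb : ∀ K : D, Function.Bijective fun k : K ⟶ G'.obj (a'.obj M) => k ≫ ξ := fun K => by
    let b := (adjg.homEquiv _ _).symm (F.map (adjg'.unit.app K) ≫ e.hom.app (L'.obj K))
    haveI : IsIso b := hbc K
    let Φ : (K ⟶ G'.obj (a'.obj M)) ≃ (K ⟶ a.obj (G.obj M)) :=
      (adjg'.homEquiv _ _).symm.trans ((adj'.homEquiv _ _).symm.trans
        (((asIso b).homFromEquiv (Z := M)).symm.trans ((adjg.homEquiv _ _).trans (adj.homEquiv _ _))))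
    have hΦ : (fun k : K ⟶ G'.obj (a'.obj M) => k ≫ ξ) = Φ := funext fun k => by
      obtain ⟨k', rfl⟩ := (adjg'.homEquiv _ _).surjective k
      have h1 : Φ (adjg'.homEquiv _ _ k') =
          adj.homEquiv _ _ (adjg.homEquiv _ _ (b ≫ (adj'.homEquiv _ _).symm k')) := by
        simp [Φ]
      rw [h1, ← adj.homEquiv_naturality_left]
      refine congrArg (adj.homEquiv _ _) ?_
      rw [adjg.homEquiv_naturality_right, Equiv.apply_symm_apply, adjg'.homEquiv_unit, F.map_comp,
        adj'.homEquiv_counit, G.map_comp, Category.assoc, Category.assoc]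
      exact congrArg (fun t => F.map (adjg'.unit.app K) ≫ t) (e.hom.naturality_assoc k' _)
    rw [hΦ]
    exact Φ.bijective
  obtain ⟨i, hi⟩ := (hb (a.obj (G.obj M))).2 (𝟙 _)
  exact ⟨i, (hb _).1 ((Category.assoc _ _ _).trans ((congrArg (fun t => ξ ≫ t) hi).trans
    ((Category.comp_id _).trans (Category.id_comp _).symm))), hi⟩

end Abstract

attribute [local instance] HasDerivedCategory.standard

variable {X S S' X' : Scheme.{u}}

lemma torInd_of_flat_left (f : X ⟶ S) (g : S' ⟶ S) [Flat f] :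
    Groth.DerivedCoh.BaseChange.TorInd f g :=
  fun V hV V' _ e U hU eU => by
    letI := (g.appLE V V' e).hom.toAlgebra
    letI := (f.appLE V U eU).hom.toAlgebra
    haveI : Module.Flat Γ(S, V) Γ(X, U) := Flat.flat_appLE f hV hU eU
    exact Groth.DerivedCoh.BaseChange.ti_of_tor (B := Γ(S', V')) (R := Γ(X, U))
      fun i hi => Groth.FrobLCI.PerfectTor.subsingleton_of_flat _ _ i hi

variable {f : X ⟶ S} {g : S' ⟶ S} {f' : X' ⟶ S'} {g' : X' ⟶ X}
  [DCoh.HasRpush f] [DCoh.HasRpush f'] [DCoh.HasRpush g] [DCoh.HasRpush g']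

/-- `ξ` is invertible for a Tor independent square, for a suitable identification of the direct images. -/
theorem exists_xi_isIso [CompactSpace X] [QuasiSeparatedSpace X] [CompactSpace S] [QuasiSeparatedSpace S]
    [CompactSpace X'] [QuasiSeparatedSpace X'] [CompactSpace S'] [QuasiSeparatedSpace S']
    (sq : IsPullback g' f' f g) (htor : Groth.DerivedCoh.BaseChange.TorInd f g)
    (hf : DCoh.RpushPreservesQCoh f) (hf' : DCoh.RpushPreservesQCoh f')
    (hg : DCoh.RpushPreservesQCoh g) (hg' : DCoh.RpushPreservesQCoh g')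
    {a : DCoh.DQCoh S ⥤ DCoh.DQCoh X} {a' : DCoh.DQCoh S' ⥤ DCoh.DQCoh X'}
    (adj : DCoh.RpushQ f hf ⊣ a) (adj' : DCoh.RpushQ f' hf' ⊣ a') :
    ∃ e : (DCoh.RpushQ g' hg' ⋙ DCoh.RpushQ f hf ≅ DCoh.RpushQ f' hf' ⋙ DCoh.RpushQ g hg),
      ∀ M : DCoh.DQCoh S', IsIso (Dual3.xi adj adj' e M) := by
  haveI := Groth.DerivedCoh.KFlat.hasLpull g
  haveI := Groth.DerivedCoh.KFlat.hasLpull g'
  let adjg₀ := Groth.DerivedCoh.PushPull.lpullRpushAdj g
  let adjg₀' := Groth.DerivedCoh.PushPull.lpullRpushAdj g'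
  obtain ⟨e₀, he₀⟩ := Groth.DerivedCoh.BaseChange.exists_baseChange sq htor adjg₀ adjg₀'
  let e : DCoh.RpushQ g' hg' ⋙ DCoh.RpushQ f hf ≅ DCoh.RpushQ f' hf' ⋙ DCoh.RpushQ g hg :=
    NatIso.ofComponents (fun K => ObjectProperty.isoMk _ (e₀.app K.obj))
      (fun h => ObjectProperty.hom_ext _ (e₀.hom.naturality h.hom))
  refine ⟨e, fun M => ?_⟩
  have hLg : Dual3.LpullPreservesQCoh g := fun K hK => Groth.Misc4.QCohDColim.isQCohD_Lpull g hK
  have hLg' : Dual3.LpullPreservesQCoh g' := fun K hK => Groth.Misc4.QCohDColim.isQCohD_Lpull g' hK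
  let adjg : Dual3.LpullQ g hLg ⊣ DCoh.RpushQ g hg :=
    { unit :=
        { app := fun K => ObjectProperty.homMk (adjg₀.unit.app K.obj)
          naturality := fun _ _ h => ObjectProperty.hom_ext _ (adjg₀.unit.naturality h.hom) }
      counit :=
        { app := fun K => ObjectProperty.homMk (adjg₀.counit.app K.obj)
          naturality := fun _ _ h => ObjectProperty.hom_ext _ (adjg₀.counit.naturality h.hom) }
      left_triangle_components := fun K => ObjectProperty.hom_ext _ (adjg₀.left_triangle_components K.obj)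
      right_triangle_components := fun K => ObjectProperty.hom_ext _ (adjg₀.right_triangle_components K.obj) }
  let adjg' : Dual3.LpullQ g' hLg' ⊣ DCoh.RpushQ g' hg' :=
    { unit :=
        { app := fun K => ObjectProperty.homMk (adjg₀'.unit.app K.obj)
          naturality := fun _ _ h => ObjectProperty.hom_ext _ (adjg₀'.unit.naturality h.hom) }
      counit :=
        { app := fun K => ObjectProperty.homMk (adjg₀'.counit.app K.obj)
          naturality := fun _ _ h => ObjectProperty.hom_ext _ (adjg₀'.counit.naturality h.hom) }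
      left_triangle_components := fun K => ObjectProperty.hom_ext _ (adjg₀'.left_triangle_components K.obj)
      right_triangle_components := fun K => ObjectProperty.hom_ext _ (adjg₀'.right_triangle_components K.obj) }
  refine isIso_mate adj adj' adjg adjg' e (fun K => ?_) M
  suffices h : IsIso ((DCoh.IsQCohD (X := S')).ι.map ((adjg.homEquiv _ _).symm
      ((DCoh.RpushQ f hf).map (adjg'.unit.app K) ≫ e.hom.app ((Dual3.LpullQ g' hLg').obj K)))) by
    exact isIso_of_fully_faithful (DCoh.IsQCohD (X := S')).ι _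
  have h0 : (DCoh.IsQCohD (X := S')).ι.map ((adjg.homEquiv _ _).symm
      ((DCoh.RpushQ f hf).map (adjg'.unit.app K) ≫ e.hom.app ((Dual3.LpullQ g' hLg').obj K))) =
      DCoh.baseChangeApp adjg₀ adjg₀' e₀ K.obj := by
    simp [DCoh.baseChangeApp, adjg, adjg', Adjunction.homEquiv_counit, e]
  rw [h0]
  exact he₀ K.obj K.property

end Groth.Dual3BC
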